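import Cfsg.Agent.H494.R4.OddExt_m3
import Cfsg.Agent.H852.IMPerm
import Cfsg.Agent.OddOrderCharacters.PF9.GaloisClifford
import Cfsg.Agent.StandardComponent.AltAut
import Cfsg.Agent.SectRankFour.AutAlt
import Cfsg.Agent.H90.R4.Prime_m3
import Cfsg.Agent.H661.SporEven
import Cfsg.Agent.H713.Two.Sing_m3
import Cfsg.Agent.H722.RealP
import Cfsg.Agent.Transfer.Residual
import Cfsg.Agent.FastGrp
import Cfsg.Agent.Prune
set_option linter.all false
prune_inst 0x7f00000000000000000000000000000000000000000000000000000000000000000000000000000000000000000000000000000000000000000000000000000000000000000000000000000000000000003fffffffffffffffffffffffffffbeffbdffffffff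
open scoped Cfsg.Agent.FastGrp

-- part: H619/R4/Four
section
/-!
# Real irreducible characters of multiply transitive groups (S4554, helper619)

* `RD.of_real` : if `G / N` is commutative then every real irreducible character of degree `≠ 1` counts;
* `two_real` : `π - 1` for a 2-transitive group;
* `four_real` : the characters of degree `(n - 1) (n - 2) / 2` and `n (n - 3) / 2` of a 4-transitive group;
* `R3_of_four` : 4-transitive groups of degree `n ≥ 5`.
-/

set_option autoImplicit false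
set_option linter.unusedSectionVars false

open Cfsg

namespace Cfsg.Agent.H619.R4

open Cfsg.Agent.Characters Cfsg.Agent.Characters.Core Cfsg.Agent.H33 Cfsg.Agent.H852.IMPerm
open scoped ComplexConjugate

universe u

section four

variable {G : Type*} [Group G] [Fintype G] (X : Type*) [MulAction G X] [Finite X]

theorem four_real [MulAction.IsMultiplyPretransitive G X 4] (hX : 4 ≤ Nat.card X) :
    (∃ χ : IrrCharacter G, (∀ g, conj ((χ : G → ℂ) g) = (χ : G → ℂ) g) ∧
      (χ : G → ℂ) 1 = (((Nat.card X - 1) * (Nat.card X - 2) / 2 : ℕ) : ℂ)) ∧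
    (∃ χ : IrrCharacter G, (∀ g, conj ((χ : G → ℂ) g) = (χ : G → ℂ) g) ∧
      (χ : G → ℂ) 1 = ((Nat.card X * (Nat.card X - 3) / 2 : ℕ) : ℂ)) := by
  have h3 : MulAction.IsMultiplyPretransitive G X 3 := MulAction.isMultiplyPretransitive_of_le (n := 4) (by norm_num) hX
  have h2 : MulAction.IsMultiplyPretransitive G X 2 := MulAction.isMultiplyPretransitive_of_le (n := 4) (by norm_num) hX
  have h1 : MulAction.IsMultiplyPretransitive G X 1 := MulAction.isMultiplyPretransitive_of_le (n := 4) (by norm_num) hX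
  have ht : MulAction.IsPretransitive G X := by
    rw [← MulAction.is_one_pretransitive_iff]
    exact h1
  set P : G → ℂ := fun g => (fx X g : ℂ) with hP
  set T : G → ℂ := fun g => (nn X g : ℂ) with hT
  have a1 : avg (fun g => P g) = 1 := by
    have := avg_desc (G := G) X 1 (by omega)
    simpa using this
  have a2 : avg (fun g => P g * (P g - 1)) = 1 := by
    have := avg_desc (G := G) X 2 (by omega)
    simp only [cast_desc_two] at this
    exact this
  have a3 : avg (fun g => P g * (P g - 1) * (P g - 2)) = 1 := by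
    have := avg_desc (G := G) X 3 (by omega)
    simp only [cast_desc_three] at this
    exact this
  have a4 : avg (fun g => P g * (P g - 1) * (P g - 2) * (P g - 3)) = 1 := by
    have := avg_desc (G := G) X 4 (by omega)
    simp only [cast_desc_four] at this
    exact this
  have b1 : avg (fun g => T g) = 1 := avg_nn X (by omega)
  have b2 : avg (fun g => P g * T g) = 1 := avg_fx_nn X (by omega)
  have a0 : avg (fun _ : G => (1 : ℂ)) = 1 := avg_one
  have hχ : IsIrrCharacter G (fun g => P g - 1) := (Cfsg.Agent.S0157.result X (by omega)).2 h2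
  have hsq : ∀ g, P (g * g) = P g + T g := by
    intro g
    rw [hP, hT]
    simp only [fx_sq, Nat.cast_add]
  set A : G → ℂ := fun g => (P g * P g - 3 * P g + 2 - T g) / 2 with hA
  set S : G → ℂ := fun g => (P g * P g - P g + T g) / 2 with hS
  have hAc : IsCharacter G A := by
    have := Cfsg.Agent.PermChar.SymAlt.isCharacter_altSq (isIrr_isCharacter hχ)
    convert this using 1
    funext g
    rw [hA]
    simp only [hsq]
    ring
  have hSc : IsCharacter G S := by
    have := Cfsg.Agent.PermChar.SymAlt.isCharacter_symSq (isIrr_isCharacter hχ)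
    convert this using 1
    funext g
    rw [hS]
    simp only [hsq]
    ring
  have hPr : ∀ g, conj (P g) = P g := fun g => Complex.conj_natCast _
  have hTr : ∀ g, conj (T g) = T g := fun g => Complex.conj_natCast _
  have hAr : ∀ g, conj (A g) = A g := by
    intro g
    rw [hA]
    simp only [map_div₀, map_sub, map_add, map_mul, hPr, hTr, map_ofNat]
  have hSr : ∀ g, conj (S g) = S g := by
    intro g
    rw [hS]
    simp only [map_div₀, map_sub, map_add, map_mul, hPr, hTr, map_ofNat]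
  -- averages
  have cA : avg (fun g => A g) = 0 := by
    have h : (fun g => A g) = fun g => (1 / 2 : ℂ) * (P g * (P g - 1) - 2 * P g + 2 * 1 - T g) := by
      funext g
      rw [hA]
      ring
    rw [h, avg_mul, avg_sub, avg_add, avg_sub, avg_mul, avg_mul, a0, a1, a2, b1]
    norm_num
  have cAP : avg (fun g => A g * P g) = 0 := by
    have h : (fun g => A g * P g) = fun g => (1 / 2 : ℂ) * (P g * (P g - 1) * (P g - 2) - P g * T g) := by
      funext g
      rw [hA]
      ring
    rw [h, avg_mul, avg_sub, a3, b2]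
    norm_num
  have cN : avg (fun g => (P g * P g - 3 * P g + 1) * (P g * P g - 3 * P g + 1)) = 2 := by
    have h : (fun g => (P g * P g - 3 * P g + 1) * (P g * P g - 3 * P g + 1)) =
        fun g => P g * (P g - 1) * (P g - 2) * (P g - 3) + 1 := by
      funext g
      ring
    rw [h, avg_add, a0, a4]
    norm_num
  set B : G → ℂ := S - P with hB
  have hBr : ∀ g, conj (B g) = B g := by
    intro g
    rw [hB, Pi.sub_apply, map_sub, hSr, hPr]
  have hAB : classInner (A + B) (A + B) = 2 := by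
    rw [inner_eq_avg _ _ (fun g => by rw [Pi.add_apply, map_add, hAr, hBr])]
    rw [← cN]
    congr 1
    funext g
    have h : A g + B g = P g * P g - 3 * P g + 1 := by
      rw [hB, hA, hS, Pi.sub_apply]
      ring
    rw [Pi.add_apply, h]
  have hAP : classInner A P = 0 := by
    rw [inner_eq_avg _ _ hPr]
    exact cAP
  obtain ⟨a, ha⟩ := classInner_isNat hAc hAc
  obtain ⟨c, hc⟩ := classInner_isNat hAc hSc
  have hABc : classInner A B = c := by
    rw [hB, classInner_sub_right, hAP, hc, sub_zero]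
  have hBAc : classInner B A = c := by
    rw [← classInner_conj_symm, hABc, Complex.conj_natCast]
  have hBB : classInner B B = 2 - a - 2 * c := by
    rw [classInner_add_left, classInner_add_right, classInner_add_right, ha, hABc, hBAc] at hAB
    linear_combination hAB
  -- degrees
  have hP1 : P 1 = (Nat.card X : ℂ) := by
    show ((fx X (1 : G) : ℕ) : ℂ) = _
    rw [fx, MulAction.fixedBy_one_eq_univ, Nat.card_univ]
  have hT1 : T 1 = 0 := by
    have h4 := hsq 1
    rw [one_mul] at h4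
    linear_combination -h4
  have hA1 : A 1 = (((Nat.card X - 1) * (Nat.card X - 2) / 2 : ℕ) : ℂ) := by
    have h4 : (Nat.card X - 1) * (Nat.card X - 2) / 2 * 2 = (Nat.card X - 1) * (Nat.card X - 2) := by
      refine Nat.div_mul_cancel (even_iff_two_dvd.1 ?_)
      obtain ⟨m, hm⟩ : ∃ m, Nat.card X = m + 2 := ⟨Nat.card X - 2, by omega⟩
      rw [hm, show m + 2 - 1 = m + 1 by omega, show m + 2 - 2 = m by omega, mul_comm]
      exact Nat.even_mul_succ_self m
    have h5 : ((((Nat.card X - 1) * (Nat.card X - 2) / 2 : ℕ) : ℂ)) * 2 = ((Nat.card X : ℂ) - 1) * ((Nat.card X : ℂ) - 2) := by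
      have h6 : ((((Nat.card X - 1) * (Nat.card X - 2) / 2 * 2 : ℕ) : ℂ)) = (((Nat.card X - 1) * (Nat.card X - 2) : ℕ) : ℂ) := by
        rw [h4]
      rw [Nat.cast_mul, Nat.cast_mul, Nat.cast_sub (by omega), Nat.cast_sub (by omega)] at h6
      exact_mod_cast h6
    have h6 : A 1 = (P 1 * P 1 - 3 * P 1 + 2 - T 1) / 2 := rfl
    rw [h6, hP1, hT1]
    linear_combination (-1 / 2 : ℂ) * h5
  have hB1 : B 1 = ((Nat.card X * (Nat.card X - 3) / 2 : ℕ) : ℂ) := by
    have h4 : Nat.card X * (Nat.card X - 3) / 2 * 2 = Nat.card X * (Nat.card X - 3) := by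
      refine Nat.div_mul_cancel (even_iff_two_dvd.1 ?_)
      obtain ⟨m, hm⟩ : ∃ m, Nat.card X = m + 3 := ⟨Nat.card X - 3, by omega⟩
      rw [hm, show m + 3 - 3 = m by omega, Nat.even_mul]
      rcases Nat.even_or_odd m with h | h
      · exact Or.inr h
      · exact Or.inl (h.add_odd (by decide))
    have h5 : (((Nat.card X * (Nat.card X - 3) / 2 : ℕ) : ℂ)) * 2 = (Nat.card X : ℂ) * ((Nat.card X : ℂ) - 3) := by
      have h6 : (((Nat.card X * (Nat.card X - 3) / 2 * 2 : ℕ) : ℂ)) = ((Nat.card X * (Nat.card X - 3) : ℕ) : ℂ) := by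
        rw [h4]
      rw [Nat.cast_mul, Nat.cast_mul, Nat.cast_sub (by omega)] at h6
      exact_mod_cast h6
    have h6 : B 1 = (P 1 * P 1 - P 1 + T 1) / 2 - P 1 := rfl
    rw [h6, hP1, hT1]
    linear_combination (-1 / 2 : ℂ) * h5
  have hA0 : A 1 ≠ 0 := by
    rw [hA1]
    have h4 : 1 ≤ (Nat.card X - 1) * (Nat.card X - 2) / 2 := by
      have h5 : 3 * 2 ≤ (Nat.card X - 1) * (Nat.card X - 2) := Nat.mul_le_mul (by omega) (by omega)
      omega
    exact_mod_cast (by omega : (Nat.card X - 1) * (Nat.card X - 2) / 2 ≠ 0)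
  have hB0n : 1 ≤ Nat.card X * (Nat.card X - 3) / 2 := by
    have h5 : 4 * 1 ≤ Nat.card X * (Nat.card X - 3) := Nat.mul_le_mul (by omega) (by omega)
    omega
  have hB0 : B 1 ≠ 0 := by
    rw [hB1]
    exact_mod_cast (by omega : Nat.card X * (Nat.card X - 3) / 2 ≠ 0)
  have ha0 : a ≠ 0 := by
    rintro rfl
    have h4 := classInner_self_eq_zero (φ := A) (by rw [ha]; simp)
    exact hA0 (by rw [h4]; rfl)
  have hpos : 0 < (2 : ℝ) - a - 2 * c := by
    have h4 := classInner_self_eq_ofReal B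
    rw [hBB] at h4
    have h5 : (2 : ℝ) - a - 2 * c = (Nat.card G : ℝ)⁻¹ * ∑ g : G, Complex.normSq (B g) := by exact_mod_cast h4
    rw [h5]
    refine mul_pos (inv_pos.2 (by exact_mod_cast Nat.card_pos)) ?_
    refine Finset.sum_pos' (fun g _ => Complex.normSq_nonneg _) ⟨1, Finset.mem_univ _, ?_⟩
    exact Complex.normSq_pos.2 hB0
  have hac : a + 2 * c < 2 := by
    have : ((a + 2 * c : ℕ) : ℝ) < (2 : ℕ) := by push_cast; linarith only [hpos]
    exact_mod_cast this
  have ha1 : a = 1 := by omega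
  have hc0 : c = 0 := by omega
  have hAi : IsIrrCharacter G A := isIrr_of_classInner_self hAc (by rw [ha, ha1]; simp)
  have hBn : classInner B B = 1 := by
    rw [hBB, ha1, hc0]
    norm_num
  have hBi : IsIrrCharacter G B := by
    rcases isIrr_of_generalized ⟨S, P, hSc, Cfsg.Agent.S0157.isCharacter_fixedBy X, rfl⟩ hBn with h | h
    · exact h
    · exfalso
      obtain ⟨m, hm, hm1⟩ := isIrr_apply_one h
      have h4 : (((m + Nat.card X * (Nat.card X - 3) / 2 : ℕ)) : ℂ) = ((0 : ℕ) : ℂ) := by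
        rw [Nat.cast_add, ← hm1, ← hB1, Pi.neg_apply, Nat.cast_zero]
        exact neg_add_cancel (B 1)
      have h5 : m + Nat.card X * (Nat.card X - 3) / 2 = 0 := by exact_mod_cast h4
      omega
  exact ⟨⟨⟨A, hAi⟩, hAr, hA1⟩, ⟨⟨B, hBi⟩, hBr, hB1⟩⟩

end four

/-- `G / N` commutative: real irreducible characters of degree `≠ 1` count. -/
theorem RD.of_real {G : Type u} [Group G] [Finite G] {N : Subgroup G} [N.Normal]
    (hc : ∀ a b : G, a * b * a⁻¹ * b⁻¹ ∈ N) {χ : IrrCharacter G} (hr : ∀ g, conj ((χ : G → ℂ) g) = (χ : G → ℂ) g)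
    {d : ℕ} (hd : (χ : G → ℂ) 1 = d) (h1 : d ≠ 1) : RD G N d := by
  refine ⟨χ, fun g => Complex.conj_eq_iff_im.1 (hr g), ?_, ?_⟩
  · by_contra hcon
    push Not at hcon
    apply h1
    have h3 : (χ : G → ℂ) 1 = 1 :=
      OddOrderCharacters.PF9.GaloisClifford.degree_one_of_comm χ.2 fun a b => hcon _ (hc a b)
    rw [hd] at h3
    exact_mod_cast h3
  · exact Cfsg.Agent.Blocks.Basic.charDegree_of_eq hd

/-- the character `π - 1` -/
theorem two_real {G : Type u} [Group G] [Finite G] {X : Type*} [MulAction G X] [Finite X]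
    (h2 : MulAction.IsMultiplyPretransitive G X 2) (hX : 2 ≤ Nat.card X) :
    ∃ χ : IrrCharacter G, (∀ g, conj ((χ : G → ℂ) g) = (χ : G → ℂ) g) ∧
      (χ : G → ℂ) 1 = ((Nat.card X - 1 : ℕ) : ℂ) := by
  have h1 : MulAction.IsMultiplyPretransitive G X 1 :=
    MulAction.isMultiplyPretransitive_of_le (n := 2) (by norm_num) hX
  have ht : MulAction.IsPretransitive G X := by
    rw [← MulAction.is_one_pretransitive_iff]
    exact h1
  refine ⟨⟨_, (Cfsg.Agent.S0157.result X hX).2 h2⟩, fun g => ?_, ?_⟩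
  · simp only [map_sub, Complex.conj_natCast, map_one]
  · have h3 : Nat.card (MulAction.fixedBy X (1 : G)) = Nat.card X := by
      rw [MulAction.fixedBy_one_eq_univ, Nat.card_univ]
    show ((Nat.card (MulAction.fixedBy X (1 : G)) : ℕ) : ℂ) - 1 = _
    rw [h3, Nat.cast_sub (by omega)]
    simp only [_root_.Nat.cast_one]

/-- **4-transitive groups of degree `n ≥ 5`.** -/
theorem R3_of_four {G : Type u} [Group G] [Finite G] {N : Subgroup G} [N.Normal]
    (hc : ∀ a b : G, a * b * a⁻¹ * b⁻¹ ∈ N) {X : Type*} [MulAction G X] [Finite X]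
    (h4 : MulAction.IsMultiplyPretransitive G X 4) (hX : 5 ≤ Nat.card X) : R3 G N := by
  have := Fintype.ofFinite G
  have h2 : MulAction.IsMultiplyPretransitive G X 2 :=
    MulAction.isMultiplyPretransitive_of_le (n := 4) (by norm_num) (by omega)
  obtain ⟨χ, hχr, hχd⟩ := two_real h2 (by omega)
  obtain ⟨⟨α, hαr, hαd⟩, β, hβr, hβd⟩ := four_real (G := G) X (by omega)
  obtain ⟨m, hm⟩ : ∃ m, Nat.card X = m + 5 := ⟨Nat.card X - 5, by omega⟩
  have e1 : Nat.card X - 1 = m + 4 := by omega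
  have e2 : (Nat.card X - 1) * (Nat.card X - 2) / 2 = Nat.card X * (Nat.card X - 3) / 2 + 1 := by
    have h5 : (Nat.card X - 1) * (Nat.card X - 2) = Nat.card X * (Nat.card X - 3) + 1 * 2 := by
      rw [hm, show m + 5 - 1 = m + 4 by omega, show m + 5 - 2 = m + 3 by omega, show m + 5 - 3 = m + 2 by omega]
      ring
    rw [h5, Nat.add_mul_div_right _ _ (by norm_num)]
  have e3 : m + 4 < Nat.card X * (Nat.card X - 3) / 2 := by
    rw [← Nat.succ_le_iff, Nat.le_div_iff_mul_le (by norm_num), hm, show m + 5 - 3 = m + 2 by omega]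
    exact Nat.mul_le_mul_left _ (by omega)
  rw [e2] at hαd
  rw [e1] at hχd
  refine ⟨m + 4, Nat.card X * (Nat.card X - 3) / 2 + 1, Nat.card X * (Nat.card X - 3) / 2, ?_, ?_, ?_,
    RD.of_real hc hχr hχd ?_, RD.of_real hc hαr hαd ?_, RD.of_real hc hβr hβd ?_⟩ <;> (clear * - e1 e3 hX hm; omega)

end Cfsg.Agent.H619.R4
end

-- part: H619/R4/Act
section
/-!
# Actions of almost simple groups (S4554, helper619)

* `exists_act` : `Q ≤ P` with `C_P(Q) = 1` such that every automorphism of `Q` is conjugation by an element of `P`;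
  then every `G` with `C_G(N) = 1`, `N ≅ Q` normal in `G`, embeds into `P` over `Q`;
* `row_of_four` : if `P = Sym(Ω)` and `Q` is 4-transitive then `Row Q`;
* `row_alt` : alternating groups of degree at least 7.
-/

set_option autoImplicit false

open Cfsg

namespace Cfsg.Agent.H619.R4

universe u

theorem conj_uniq {P : Type*} [Group P] {Q : Subgroup P} (hQc : Subgroup.centralizer (Q : Set P) = ⊥) {a b : P}
    (h : ∀ x : Q, a * x * a⁻¹ = b * x * b⁻¹) : a = b := by
  have h1 : b⁻¹ * a ∈ Subgroup.centralizer (Q : Set P) := by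
    rw [Subgroup.mem_centralizer_iff]
    intro x hx
    have h2 := h ⟨x, hx⟩
    have h3 : x * (b⁻¹ * a) = b⁻¹ * (b * x * b⁻¹) * a := by group
    have h4 : x * (b⁻¹ * a) = b⁻¹ * (a * x * a⁻¹) * a := by rw [h3]; exact congrArg (fun z => b⁻¹ * z * a) h2.symm
    rw [h4]
    group
  rw [hQc, Subgroup.mem_bot, inv_mul_eq_one] at h1
  exact h1.symm

/-- **The action of an almost simple group.** -/
theorem exists_act {G : Type*} [Group G] {N : Subgroup G} [N.Normal] (hC : Subgroup.centralizer (N : Set G) = ⊥)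
    {P : Type*} [Group P] {Q : Subgroup P} (hQc : Subgroup.centralizer (Q : Set P) = ⊥)
    (hact : ∀ σ : MulAut Q, ∃ p : P, ∀ x : Q, ((σ x : Q) : P) = p * x * p⁻¹) (e : Q ≃* N) :
    ∃ F : G →* P, Function.Injective F ∧ (∀ x : Q, F (e x) = x) ∧
      ∀ (g : G) (x : Q), ((e.symm (MulAut.conjNormal g (e x)) : Q) : P) = F g * x * (F g)⁻¹ := by
  let c : G → MulAut Q := fun g => (e.trans (MulAut.conjNormal g)).trans e.symm
  choose p hp using hact
  have hpc : ∀ (g : G) (x : Q), ((e.symm (MulAut.conjNormal g (e x)) : Q) : P) = p (c g) * x * (p (c g))⁻¹ :=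
    fun g x => hp (c g) x
  have hmul : ∀ a b : G, p (c (a * b)) = p (c a) * p (c b) := by
    intro a b
    refine conj_uniq hQc fun x => ?_
    rw [← hpc (a * b) x]
    have h1 : e.symm (MulAut.conjNormal (a * b) (e x)) =
        e.symm (MulAut.conjNormal a (e (e.symm (MulAut.conjNormal b (e x))))) := by
      rw [map_mul, MulAut.mul_apply, MulEquiv.apply_symm_apply]
    rw [h1, hpc a, hpc b]
    group
  refine ⟨MonoidHom.mk' (fun g => p (c g)) hmul, ?_, ?_, hpc⟩
  · rw [injective_iff_map_eq_one]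
    intro g hg
    have hg' : p (c g) = 1 := hg
    have h1 : g ∈ Subgroup.centralizer (N : Set G) := by
      rw [Subgroup.mem_centralizer_iff]
      intro y hy
      have h2 := hpc g (e.symm ⟨y, hy⟩)
      rw [hg', MulEquiv.apply_symm_apply, one_mul, inv_one, mul_one] at h2
      have h3 := e.symm.injective (Subtype.ext h2)
      have h4 : g * y * g⁻¹ = y := congrArg Subtype.val h3
      exact (mul_inv_eq_iff_eq_mul.1 h4).symm
    rw [hC, Subgroup.mem_bot] at h1
    exact h1
  · intro x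
    show p (c (e x)) = x
    refine conj_uniq hQc fun y => ?_
    rw [← hpc]
    have h1 : e.symm (MulAut.conjNormal ((e x : N) : G) (e y)) = x * y * x⁻¹ := by
      rw [MulEquiv.symm_apply_eq]
      refine Subtype.ext ?_
      rw [MulAut.conjNormal_apply, map_mul, map_mul, map_inv]
      rfl
    rw [h1]
    rfl

theorem row_of_four {Ω : Type*} [Finite Ω] {Q : Subgroup (Equiv.Perm Ω)}
    (hQc : Subgroup.centralizer (Q : Set (Equiv.Perm Ω)) = ⊥)
    (hact : ∀ σ : MulAut Q, ∃ p : Equiv.Perm Ω, ∀ x : Q, ((σ x : Q) : Equiv.Perm Ω) = p * x * p⁻¹)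
    (h4 : MulAction.IsMultiplyPretransitive Q Ω 4) (hX : 5 ≤ Nat.card Ω)
    (hcomm : ∀ a b : Equiv.Perm Ω, (∀ x ∈ Q, a * x * a⁻¹ ∈ Q) → (∀ x ∈ Q, b * x * b⁻¹ ∈ Q) → a * b * a⁻¹ * b⁻¹ ∈ Q)
    {S : Type u} [Group S] (f : S ≃* Q) : Row S := by
  intro G _ _ N _ ⟨e⟩ hC _
  obtain ⟨F, hF, hx, hg⟩ := exists_act hC hQc hact (f.symm.trans e)
  have hmem : ∀ g : G, ∀ x ∈ Q, F g * x * (F g)⁻¹ ∈ Q := by
    intro g x hxQ
    have := hg g ⟨x, hxQ⟩
    rw [← this]
    exact Subtype.property _
  have hc : ∀ a b : G, a * b * a⁻¹ * b⁻¹ ∈ N := by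
    intro a b
    have h1 := hcomm (F a) (F b) (hmem a) (hmem b)
    have h2 := hx ⟨_, h1⟩
    have h3 : ((f.symm.trans e) ⟨_, h1⟩ : G) = a * b * a⁻¹ * b⁻¹ := by
      apply hF
      rw [h2]
      simp only [map_mul, map_inv]
    rw [← h3]
    exact Subtype.property _
  letI : MulAction G Ω := MulAction.compHom Ω F
  have h4' : MulAction.IsMultiplyPretransitive G Ω 4 := by
    rw [MulAction.isMultiplyPretransitive_iff] at h4 ⊢
    intro x y
    obtain ⟨q, hq⟩ := h4 x y
    refine ⟨((f.symm.trans e) q : G), ?_⟩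
    ext i
    have := congrArg (fun z => z i) hq
    show F ((f.symm.trans e) q : G) (x i) = y i
    rw [hx q]
    exact this
  exact R3_of_four hc h4' hX

/-- **Alternating groups of degree at least 7.** -/
theorem row_alt (n : ℕ) (hn : 7 ≤ n) {S : Type u} [Group S] (f : S ≃* alternatingGroup (Fin n)) : Row S := by
  have hnc : Nat.card (Fin n) = n := Nat.card_fin n
  have h2 : MulAction.IsMultiplyPretransitive (alternatingGroup (Fin n)) (Fin n) (Nat.card (Fin n) - 2) :=
    alternatingGroup.isMultiplyPretransitive (Fin n)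
  obtain ⟨ψ, hψ⟩ := Cfsg.Agent.StandardComponent.AltAut.exists_autHom n hn
  refine row_of_four (Q := alternatingGroup (Fin n)) ?_ (fun σ => ⟨ψ σ, hψ σ⟩) ?_ (by rw [hnc]; omega) ?_ f
  · rw [eq_bot_iff]
    intro g hg
    rw [Subgroup.mem_centralizer_iff] at hg
    obtain ⟨m, rfl⟩ : ∃ m, n = m + 2 := ⟨n - 2, by omega⟩
    rw [Subgroup.mem_bot]
    refine Cfsg.Agent.StandardComponent.AltAut.conj_unique (m := m) (by omega) fun x => ?_
    rw [← hg x x.2]
    group
  · exact MulAction.isMultiplyPretransitive_of_le (n := Nat.card (Fin n) - 2) (by rw [hnc]; omega) (by omega)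
  · intro a b _ _
    rw [Equiv.Perm.mem_alternatingGroup]
    simp only [map_mul, map_inv]
    rw [mul_comm (Equiv.Perm.sign a) (Equiv.Perm.sign b), Int.units_inv_eq_self, Int.units_inv_eq_self,
      mul_assoc (Equiv.Perm.sign b), Int.units_mul_self, mul_one, Int.units_mul_self]

end Cfsg.Agent.H619.R4
end

-- part: H619/R4/LTwo
section
/-!
# L2: a real irreducible character of even degree not trivial on `N`, `G / N` a 2-group (S4554, helper619)
-/

set_option autoImplicit false

namespace Cfsg.Agent.H619.R4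

open Cfsg Cfsg.Agent.Characters Cfsg.Agent.Blocks Cfsg.Agent.H686.CharKit Cfsg.Agent.H612.Base

universe u

theorem pow_card_pred {G : Type*} [Group G] [Finite G] (g : G) : g ^ (Nat.card G - 1) = g⁻¹ := by
  rw [eq_inv_iff_mul_eq_one, ← pow_succ, Nat.sub_add_cancel Nat.card_pos]
  exact pow_card_eq_one'

theorem km_card (G : Type*) [Group G] [Finite G] : KM G (Nat.card G - 1) where
  sq g := by rw [pow_card_pred, pow_card_pred, inv_inv]
  odd g _ := pow_card_pred g

theorem real_of_fx {G : Type*} [Group G] [Finite G] (χ : IrrCharacter G) (h : Fx (Nat.card G - 1) (χ : G → ℂ)) (g : G) :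
    ((χ : G → ℂ) g).im = 0 := by
  have h1 : (χ : G → ℂ) (g ^ (Nat.card G - 1)) = (χ : G → ℂ) g := h g
  rw [pow_card_pred, Core.isCharacter_apply_inv (Core.isIrr_isCharacter χ.2)] at h1
  exact Complex.conj_eq_iff_im.1 h1

/-- **L2** for quotients which are 2-groups. -/
theorem real_even {S : Type u} [Group S] (hS : H612.Even.EvenOver S) {G : Type u} [Group G] [Finite G] (N : Subgroup G)
    [N.Normal] (e : Nonempty (S ≃* N)) (h2 : IsPGroup 2 (G ⧸ N)) : ∃ d, Even d ∧ RD G N d := by
  obtain ⟨χ, h1, h3, h4⟩ := hS G N e h2 _ (km_card G)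
  exact ⟨_, h3, χ, real_of_fx χ h1, h4, rfl⟩

end Cfsg.Agent.H619.R4
end

-- part: H619/R4/SporBase
section
/-!
# Criteria for the rows of simple groups with `|Out| ≤ 2` (S4554, helper619)

* `RC S d` : real irreducible character of degree `d` of `S`;
* `index_le`, `comm_of_index`, `isPGroup_of_index` : `|G : N| ≤ |Out S| ≤ 2`;
* `top_prime` : `G = N`, `p ∥ |G|`, a real element of order `p` and a real irreducible degree divisible by `p`;
* `two_full` : `|G : N| = 2`, the elements of order `p ∥ |N|` form one class, real odd degree divisible by `p`;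
* `of_even`, `of_odd` : two real degrees of the same parity.
-/

set_option autoImplicit false
set_option linter.unusedSectionVars false

open Cfsg

namespace Cfsg.Agent.H619.R4

open Cfsg.Agent.Characters Cfsg.Agent.Characters.Core Cfsg.Agent.Blocks Cfsg.Agent.H686.CharKit
open Cfsg.Agent.H722.RealP (HasReal)
open scoped ComplexConjugate

universe u v

/-- a real irreducible character of degree `d` -/
def RC (S : Type*) [Group S] (d : ℕ) : Prop :=
  ∃ χ : IrrCharacter S, (∀ g, ((χ : S → ℂ) g).im = 0) ∧ charDegree (χ : S → ℂ) = d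

theorem RC.congr {S T : Type*} [Group S] [Group T] (e : S ≃* T) {d : ℕ} (h : RC S d) : RC T d := by
  obtain ⟨χ, h1, h2⟩ := h
  refine ⟨⟨(χ : S → ℂ) ∘ e.symm, isIrr_comp (e.symm : T →* S) e.symm.surjective χ.2⟩, fun g => h1 _, ?_⟩
  have h3 : charDegree ((χ : S → ℂ) ∘ e.symm) = charDegree (χ : S → ℂ) := by
    unfold charDegree
    simp only [_root_.Function.comp_apply, _root_.map_one]
  exact h3.trans h2

theorem RC.of_conj {S : Type*} [Group S] {d : ℕ} {χ : IrrCharacter S} (hr : ∀ g, conj ((χ : S → ℂ) g) = (χ : S → ℂ) g)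
    (hd : (χ : S → ℂ) 1 = d) : RC S d :=
  ⟨χ, fun g => Complex.conj_eq_iff_im.1 (hr g), Cfsg.Agent.Blocks.Basic.charDegree_of_eq hd⟩

theorem RC.rd {G : Type u} [Group G] [Finite G] {N : Subgroup G} [N.Normal] (hc : ∀ a b : G, a * b * a⁻¹ * b⁻¹ ∈ N)
    {d : ℕ} (h : RC G d) (h1 : d ≠ 1) : RD G N d := by
  obtain ⟨χ, hr, hd⟩ := h
  refine RD.of_real hc (χ := χ) (fun g => Complex.conj_eq_iff_im.2 (hr g)) ?_ h1
  rw [← hd]
  exact Cfsg.Agent.Blocks.Basic.irr_one_eq_charDegree χ.2

section index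

theorem index_congr {X Y : Type*} [Group X] [Group Y] (e : X ≃* Y) :
    (MulAut.conj : X →* MulAut X).range.index = (MulAut.conj : Y →* MulAut Y).range.index := by
  have h1 : (MulAut.conj : Y →* MulAut Y).range =
      (MulAut.conj : X →* MulAut X).range.map (MulAut.congr e).toMonoidHom := by
    ext f
    constructor
    · rintro ⟨y, rfl⟩
      refine ⟨MulAut.conj (e.symm y), ⟨_, rfl⟩, ?_⟩
      ext z
      show e (e.symm y * e.symm z * (e.symm y)⁻¹) = y * z * y⁻¹
      simp only [_root_.map_mul, _root_.MulEquiv.apply_symm_apply, _root_.map_inv]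
    · rintro ⟨_, ⟨x, rfl⟩, rfl⟩
      refine ⟨e x, ?_⟩
      ext z
      show e x * z * (e x)⁻¹ = e (x * e.symm z * x⁻¹)
      simp only [_root_.map_mul, _root_.MulEquiv.apply_symm_apply, _root_.map_inv]
  rw [h1]
  exact (Subgroup.index_map_of_bijective (f := (MulAut.congr e).toMonoidHom) (MulAut.congr e).bijective _).symm

/-- `|G : N| ≤ |Out N|` -/
theorem index_le_aux {G : Type*} [Group G] [Finite G] {N : Subgroup G} [N.Normal]
    (hc : Subgroup.centralizer (N : Set G) = ⊥) : N.index ≤ (MulAut.conj : ↥N →* MulAut ↥N).range.index := by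
  have h1 : Function.Injective (MulAut.conjNormal : G →* MulAut ↥N) := by
    rw [injective_iff_map_eq_one]
    intro g hg
    have h2 : g ∈ Subgroup.centralizer (N : Set G) := by
      rw [Subgroup.mem_centralizer_iff]
      intro n hn
      have h3 := congrArg (fun f : MulAut ↥N => ((f ⟨n, hn⟩ : ↥N) : G)) hg
      simp only [MulAut.conjNormal_apply, MulAut.one_apply] at h3
      rw [mul_inv_eq_iff_eq_mul] at h3
      exact h3.symm
    rw [hc] at h2
    exact h2
  have h2 : Nat.card G ≤ Nat.card (MulAut ↥N) := Nat.card_le_card_of_injective _ h1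
  have h3 : Nat.card ↥(MulAut.conj : ↥N →* MulAut ↥N).range ≤ Nat.card ↥N :=
    Nat.card_le_card_of_surjective _ (MulAut.conj : ↥N →* MulAut ↥N).rangeRestrict_surjective
  have h4 := N.card_mul_index
  have h5 := (MulAut.conj : ↥N →* MulAut ↥N).range.card_mul_index
  have h6 : 0 < Nat.card ↥N := Nat.card_pos
  have h7 : Nat.card ↥N * N.index ≤ Nat.card ↥N * (MulAut.conj : ↥N →* MulAut ↥N).range.index := by
    rw [h4]
    refine h2.trans ?_
    rw [← h5]
    exact Nat.mul_le_mul_right _ h3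
  exact Nat.le_of_mul_le_mul_left h7 h6

variable {S : Type u} [Group S] {G : Type v} [Group G] [Finite G] {N : Subgroup G} [N.Normal]

theorem index_le (e : S ≃* N) (hc : Subgroup.centralizer (N : Set G) = ⊥) {n : ℕ}
    (hout : (MulAut.conj : S →* MulAut S).range.index ≤ n) : N.index ≤ n := by
  refine (index_le_aux hc).trans ?_
  rw [← index_congr e]
  exact hout

/-- `|G : N| ≤ 2`: `G / N` is commutative. -/
theorem comm_of_index (h : N.index ≤ 2) (a b : G) : a * b * a⁻¹ * b⁻¹ ∈ N := by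
  have h0 : N.index ≠ 0 := Subgroup.index_ne_zero_of_finite
  have h1 : N.index = 1 ∨ N.index = 2 := by omega
  rcases h1 with h1 | h1
  · rw [Subgroup.index_eq_one.1 h1]
    exact Subgroup.mem_top _
  · have key : ∀ x y : G, x * y ∈ N ↔ (x ∈ N ↔ y ∈ N) := fun x y => Subgroup.mul_mem_iff_of_index_two h1
    rw [key, key, key, inv_mem_iff, inv_mem_iff]
    (clear * -; tauto)

theorem isPGroup_of_index (h : N.index ≤ 2) : IsPGroup 2 (G ⧸ N) := by
  have h0 : N.index ≠ 0 := Subgroup.index_ne_zero_of_finite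
  have h1 : N.index = 1 ∨ N.index = 2 := by omega
  rcases h1 with h1 | h1
  · exact IsPGroup.of_card (n := 0) (by rw [← Subgroup.index_eq_card, h1, pow_zero])
  · exact IsPGroup.of_card (n := 1) (by rw [← Subgroup.index_eq_card, h1, pow_one])

theorem commutator_le_of (h : ∀ a b : G, a * b * a⁻¹ * b⁻¹ ∈ N) : commutator G ≤ N := by
  rw [commutator_def, Subgroup.commutator_le]
  intro a _ b _
  rw [commutatorElement_def]
  exact h a b

end index

section top

variable {G : Type u} [Group G] [Finite G]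

/-- **`G = N`**: a real element of order `p ∥ |G|` and a real irreducible degree divisible by `p`. -/
theorem top_prime {N : Subgroup G} [N.Normal] (hN : N = ⊤) {p : ℕ} (hp : p.Prime) (hp2 : p ≠ 2)
    (hsq : ¬ p ^ 2 ∣ Nat.card G) (hreal : HasReal p G) {d : ℕ} (hd : RC G d) (hpd : p ∣ d) : R3 G N := by
  subst hN
  obtain ⟨x, hx, hinv⟩ := hreal.isConj
  have hc : ∀ a b : G, a * b * a⁻¹ * b⁻¹ ∈ (⊤ : Subgroup G) := fun a b => Subgroup.mem_top _
  obtain ⟨b, hb, hpb, hRb⟩ := H90.R4.Prime.prime_even hp hp2 hsq hx hinv ⊤ le_top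
  obtain ⟨a, ha, hpa, hRa⟩ := H90.R4.Prime.prime_odd hp hp2 hsq hx hinv ⊤ (Subgroup.mem_top x) (m := 1) odd_one (by
    rw [Subgroup.index_top, Subgroup.relIndex_top_left])
  have hd1 : d ≠ 1 := by
    rintro rfl
    exact hp.one_lt.ne' (Nat.dvd_one.1 hpd)
  refine ⟨a, b, d, ?_, ?_, ?_, hRa, hRb, hd.rd hc hd1⟩
  · rintro rfl
    exact (Nat.not_even_iff_odd.2 ha) hb
  · rintro rfl
    exact hpa hpd
  · rintro rfl
    exact hpb hpd

end top

section two

variable {G : Type u} [Group G] [Finite G] {N : Subgroup G} [N.Normal]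

theorem R3.of_even_prime (hc : ∀ a b : G, a * b * a⁻¹ * b⁻¹ ∈ N) {p : ℕ} (hp : p.Prime) (hp2 : p ≠ 2)
    (hsq : ¬ p ^ 2 ∣ Nat.card G) (hreal : HasReal p G) {c d : ℕ} (hRc : RD G N c) (hRd : RD G N d) (hcp : p ∣ c)
    (hd : Odd d) (hne : c ≠ d) : R3 G N := by
  obtain ⟨x, hx, hinv⟩ := hreal.isConj
  obtain ⟨b, hb, hpb, hRb⟩ := H90.R4.Prime.prime_even hp hp2 hsq hx hinv N (commutator_le_of hc)
  refine ⟨b, c, d, ?_, ?_, hne, hRb, hRc, hRd⟩
  · rintro rfl
    exact hpb hcp
  · rintro rfl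
    exact (Nat.not_even_iff_odd.2 hd) hb

/-- Fusion controlled by `N`: the centralizer of `x` is not contained in `N`. -/
theorem exists_cent_not_mem (hN : N.index = 2) {p : ℕ} [hp : Fact p.Prime]
    (hG : (Nat.card N).factorization p = 1) {x : N} (hx : orderOf x = p)
    (hrat : ∀ j : ℕ, ¬ p ∣ j → IsConj x (x ^ j)) :
    ∃ u ∉ N, u ∈ Subgroup.centralizer ({(x : G)} : Set G) := by
  obtain ⟨g, hg⟩ : ∃ g : G, g ∉ N := by
    by_contra hcon
    push Not at hcon
    have h1 : N = ⊤ := (Subgroup.eq_top_iff' N).2 hcon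
    rw [h1, Subgroup.index_top] at hN
    omega
  have hy : orderOf (MulAut.conjNormal g x : N) = p := by rw [MulEquiv.orderOf_eq, hx]
  obtain ⟨j, hj, hc⟩ := H713.Two.Sing.isConj_pow hG hx hy
  obtain ⟨n, hn⟩ := isConj_iff.1 (hc.trans (hrat j hj).symm)
  have hn' : (n : G) * (g * (x : G) * g⁻¹) * (n : G)⁻¹ = x := by
    have := congrArg Subtype.val hn
    simpa only [_root_.Subgroup.coe_mul, _root_.MulAut.conjNormal_apply, _root_.InvMemClass.coe_inv] using this
  refine ⟨(n : G) * g, fun h => hg ((N.mul_mem_cancel_left n.2).1 h), ?_⟩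
  rw [Subgroup.mem_centralizer_singleton_iff]
  have h1 : (n : G) * g * (x : G) * ((n : G) * g)⁻¹ = x := by
    have h2 : (n : G) * g * (x : G) * ((n : G) * g)⁻¹ = (n : G) * (g * (x : G) * g⁻¹) * (n : G)⁻¹ := by group
    rw [h2, hn']
  exact mul_inv_eq_iff_eq_mul.1 h1

theorem relIndex_eq_two (hN : N.index = 2) {C : Subgroup G} (h : ∃ u ∉ N, u ∈ C) : N.relIndex C = 2 := by
  obtain ⟨u, huN, huC⟩ := h
  have h1 : N.relIndex C ∣ 2 := hN ▸ Subgroup.relIndex_dvd_index_of_normal N C
  have h2 : N.relIndex C ≠ 1 := by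
    rw [Ne, Subgroup.relIndex_eq_one]
    exact fun h => huN (h huC)
  rcases (Nat.dvd_prime Nat.prime_two).1 h1 with h3 | h3
  · exact absurd h3 h2
  · exact h3

theorem pResidual_two_top {S : Type u} [Group S] [Finite S] [IsSimpleGroup S] (hna : ¬ IsMulCommutative S) :
    pResidual 2 S = ⊤ := by
  have : Fact (Nat.Prime 2) := ⟨Nat.prime_two⟩
  have hn : (pResidual 2 S).Normal := Cfsg.Agent.Transfer.Residual.pResidual_normal 2
  rcases hn.eq_bot_or_eq_top with h | h
  · exfalso
    apply not_isPGroup hna (p := 2)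
    rw [IsPGroup.iff_orderOf]
    intro g
    obtain ⟨k, m, hm, hkm⟩ := Nat.exists_eq_two_pow_mul_odd (orderOf_pos g).ne'
    have h1 : g ^ 2 ^ k ∈ pResidual 2 S := by
      apply Subgroup.subset_closure
      show (orderOf (g ^ 2 ^ k)).Coprime 2
      rw [orderOf_pow_of_dvd (by positivity) (by rw [hkm]; exact Dvd.intro _ rfl), hkm,
        Nat.mul_div_cancel_left _ (by positivity)]
      exact hm.coprime_two_right
    rw [h, Subgroup.mem_bot] at h1
    obtain ⟨j, -, hj⟩ := (Nat.dvd_prime_pow Nat.prime_two).1 (orderOf_dvd_of_pow_eq_one h1)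
    exact ⟨j, hj⟩
  · exact h

theorem center_bot_of {S : Type u} [Group S] [IsSimpleGroup S] (hna : ¬ IsMulCommutative S) :
    Subgroup.center S = ⊥ := by
  rcases (inferInstance : (Subgroup.center S).Normal).eq_bot_or_eq_top with h | h
  · exact h
  · exact absurd ⟨⟨fun a b => (Subgroup.mem_center_iff.1 (h ▸ Subgroup.mem_top b : b ∈ Subgroup.center S) a)⟩⟩ hna

/-- A real character of odd degree of `S`. -/
theorem rd_of_odd {S : Type u} [Group S] [Finite S] [IsSimpleGroup S] (hna : ¬ IsMulCommutative S) (f : S ≃* N)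
    {d : ℕ} (hd : RC S d) (hod : Odd d) (h1 : d ≠ 1) : ∃ k, k ∣ N.index ∧ RD G N (k * d) := by
  obtain ⟨θ, hr, hθ⟩ := hd
  have hE := H494.R4.oext_of_odd (center_bot_of hna) (pResidual_two_top hna) θ.2 hr (by rw [hθ]; exact hod)
  have h2 := H494.R4.rd_of_oext θ.2 (H494.R4.ne_of_degree θ.2 (by rw [hθ]; exact h1)) hE N f
  rw [hθ] at h2
  refine ⟨_, ?_, h2⟩
  rw [Subgroup.index_eq_card]
  exact H494.R4.index_stb_dvd N f (isIrr_isClassFunction θ.2)

/-- **`|G : N| = 2`**, full fusion. -/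
theorem two_full (hN : N.index = 2) {S : Type u} [Group S] [Finite S] [IsSimpleGroup S] (hna : ¬ IsMulCommutative S)
    (f : S ≃* N) {p : ℕ} [hp : Fact p.Prime] (hp2 : p ≠ 2) (hS : (Nat.card S).factorization p = 1) {x : S}
    (hx : orderOf x = p) (hrat : ∀ j : ℕ, ¬ p ∣ j → IsConj x (x ^ j)) {d : ℕ} (hd : RC S d) (hod : Odd d)
    (hpd : p ∣ d) : R3 G N := by
  have hNc : Nat.card N = Nat.card S := (Nat.card_congr f.toEquiv).symm
  have hG : (Nat.card G).factorization p = 1 := by
    rw [← N.card_mul_index, hN, Nat.factorization_mul Nat.card_pos.ne' two_ne_zero, Finsupp.add_apply, hNc, hS]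
    have : (2 : ℕ).factorization p = 0 := Nat.factorization_eq_zero_of_not_dvd fun h =>
      hp2 ((Nat.prime_dvd_prime_iff_eq hp.out Nat.prime_two).1 h)
    omega
  have hsq : ¬ p ^ 2 ∣ Nat.card G := by
    rw [hp.out.pow_dvd_iff_le_factorization Nat.card_pos.ne', hG]
    norm_num
  have hinvS : IsConj x x⁻¹ := by
    have h1 := hrat (p - 1) (fun h => by
      have h2 := Nat.le_of_dvd (by have := hp.out.two_le; omega) h
      have := hp.out.two_le
      omega)
    have h2 : x ^ (p - 1) = x⁻¹ := by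
      rw [eq_inv_iff_mul_eq_one, ← pow_succ, Nat.sub_add_cancel hp.out.one_lt.le, ← hx, pow_orderOf_eq_one]
    rwa [h2] at h1
  set y : N := f x with hy
  have hyo : orderOf y = p := by rw [hy, MulEquiv.orderOf_eq, hx]
  have hyrat : ∀ j : ℕ, ¬ p ∣ j → IsConj y (y ^ j) := by
    intro j hj
    rw [hy, ← map_pow]
    exact MonoidHom.map_isConj f.toMonoidHom (hrat j hj)
  have hyG : orderOf (y : G) = p := by rw [Subgroup.orderOf_coe, hyo]
  have hinv : IsConj (y : G) (y : G)⁻¹ := by
    have h1 : IsConj y y⁻¹ := by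
      rw [hy, ← map_inv]
      exact MonoidHom.map_isConj f.toMonoidHom hinvS
    exact MonoidHom.map_isConj N.subtype h1
  have hc : ∀ a b : G, a * b * a⁻¹ * b⁻¹ ∈ N := comm_of_index (by rw [hN])
  have hcent := exists_cent_not_mem hN (by rw [hNc, hS]) hyo hyrat
  obtain ⟨b, hb, hpb, hRb⟩ := H90.R4.Prime.prime_even hp.out hp2 hsq hyG hinv N (commutator_le_of hc)
  obtain ⟨a, ha, hpa, hRa⟩ := H90.R4.Prime.prime_odd hp.out hp2 hsq hyG hinv N y.2 (m := 1) odd_one (by
    rw [hN, relIndex_eq_two hN hcent])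
  have hd1 : d ≠ 1 := by
    rintro rfl
    exact hp.out.one_lt.ne' (Nat.dvd_one.1 hpd)
  obtain ⟨k, -, hk⟩ := rd_of_odd hna f hd hod hd1
  have hpk : p ∣ k * d := hpd.mul_left k
  refine ⟨a, b, k * d, ?_, ?_, ?_, hRa, hRb, hk⟩
  · rintro rfl
    exact (Nat.not_even_iff_odd.2 ha) hb
  · rintro rfl
    exact hpa hpk
  · rintro rfl
    exact hpb hpk

/-- two even degrees -/
theorem R3.of_even [IsSimpleGroup N] (hna : ¬ IsMulCommutative N) (h2 : 2 ∣ Nat.card N) {a b : ℕ} (ha : Even a)
    (hb : Even b) (hab : a ≠ b) (hRa : RD G N a) (hRb : RD G N b) : R3 G N := by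
  obtain ⟨d, hd, hR⟩ := real_odd N hna h2
  refine ⟨a, b, d, hab, ?_, ?_, hRa, hRb, hR⟩
  · rintro rfl
    exact (Nat.not_even_iff_odd.2 hd) ha
  · rintro rfl
    exact (Nat.not_even_iff_odd.2 hd) hb

/-- two odd degrees -/
theorem R3.of_odd {S : Type u} [Group S] (hS : H612.Even.EvenOver S) (f : S ≃* N) (hi : N.index ≤ 2) {a b : ℕ}
    (ha : Odd a) (hb : Odd b) (hab : a ≠ b) (hRa : RD G N a) (hRb : RD G N b) : R3 G N := by
  obtain ⟨d, hd, hR⟩ := real_even hS N ⟨f⟩ (isPGroup_of_index hi)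
  refine ⟨a, b, d, hab, ?_, ?_, hRa, hRb, hR⟩
  · rintro rfl
    exact (Nat.not_even_iff_odd.2 ha) hd
  · rintro rfl
    exact (Nat.not_even_iff_odd.2 hb) hd

end two

section rows

variable {S : Type u} [Group S]

/-- **Rows with `Out = 1`.** -/
theorem row_one (hout : (MulAut.conj : S →* MulAut S).range.index = 1)
    (h : ∀ (G : Type u) [Group G] [Finite G] (N : Subgroup G) [N.Normal], S ≃* N → N = ⊤ → S ≃* G → R3 G N) :
    Row S := by
  intro G _ _ N _ ⟨f⟩ hC _
  have h1 := index_le f hC (n := 1) (by rw [hout])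
  have h0 : N.index ≠ 0 := Subgroup.index_ne_zero_of_finite
  have h2 : N = ⊤ := Subgroup.index_eq_one.1 (by omega)
  exact h G N f h2 (f.trans ((MulEquiv.subgroupCongr h2).trans Subgroup.topEquiv))

/-- **Rows with `|Out| ≤ 2`.** -/
theorem row_two (hout : (MulAut.conj : S →* MulAut S).range.index ≤ 2)
    (h : ∀ (G : Type u) [Group G] [Finite G] (N : Subgroup G) [N.Normal], S ≃* N → N = ⊤ → S ≃* G → R3 G N)
    (h2 : ∀ (G : Type u) [Group G] [Finite G] (N : Subgroup G) [N.Normal], S ≃* N →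
      Subgroup.centralizer (N : Set G) = ⊥ → N.index = 2 → R3 G N) :
    Row S := by
  intro G _ _ N _ ⟨f⟩ hC _
  have h1 := index_le f hC (n := 2) hout
  have h0 : N.index ≠ 0 := Subgroup.index_ne_zero_of_finite
  have h3 : N.index = 1 ∨ N.index = 2 := by omega
  rcases h3 with h3 | h3
  · have h2 : N = ⊤ := Subgroup.index_eq_one.1 (by omega)
    exact h G N f h2 (f.trans ((MulEquiv.subgroupCongr h2).trans Subgroup.topEquiv))
  · exact h2 G N f hC h3

/-- `Out = 1` and a prime. -/
theorem row_one_prime [Finite S] (hout : (MulAut.conj : S →* MulAut S).range.index = 1) {p : ℕ} (hp : p.Prime)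
    (hp2 : p ≠ 2) (hsq : ¬ p ^ 2 ∣ Nat.card S) (hreal : HasReal p S) {d : ℕ} (hd : RC S d) (hpd : p ∣ d) : Row S :=
  row_one hout fun G _ _ N _ _ hN f => top_prime hN hp hp2 (by rwa [← Nat.card_congr f.toEquiv])
    (hreal.map_equiv f) (hd.congr f) hpd

/-- `|Out| ≤ 2`, full fusion and a real odd degree divisible by `p`. -/
theorem row_two_prime [Finite S] [IsSimpleGroup S] (hna : ¬ IsMulCommutative S)
    (hout : (MulAut.conj : S →* MulAut S).range.index ≤ 2) {p : ℕ} [hp : Fact p.Prime]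
    (hp2 : p ≠ 2) (hS : (Nat.card S).factorization p = 1) {x : S}
    (hx : orderOf x = p) (hrat : ∀ j : ℕ, ¬ p ∣ j → IsConj x (x ^ j)) {d : ℕ} (hd : RC S d) (hod : Odd d)
    (hpd : p ∣ d) : Row S := by
  have hsq : ¬ p ^ 2 ∣ Nat.card S := by
    rw [hp.out.pow_dvd_iff_le_factorization Nat.card_pos.ne', hS]
    norm_num
  have hreal : HasReal p S := by
    refine H722.RealP.hasReal_of_isConj hx ?_
    have h1 := hrat (p - 1) (fun h => by
      have h2 := Nat.le_of_dvd (by have := hp.out.two_le; omega) h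
      have := hp.out.two_le
      omega)
    have h2 : x ^ (p - 1) = x⁻¹ := by
      rw [eq_inv_iff_mul_eq_one, ← pow_succ, Nat.sub_add_cancel hp.out.one_lt.le, ← hx, pow_orderOf_eq_one]
    rwa [h2] at h1
  refine row_two hout (fun G _ _ N _ _ hN f => ?_) fun G _ _ N _ f _ hN => two_full hN hna f hp2 hS hx hrat hd hod hpd
  exact top_prime hN hp.out hp2 (by rwa [← Nat.card_congr f.toEquiv]) (hreal.map_equiv f) (hd.congr f) hpd

theorem two_dvd_of_rc [Finite S] {d : ℕ} (hd : RC S d) (h : Even d) : 2 ∣ Nat.card S := by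
  obtain ⟨χ, -, rfl⟩ := hd
  exact (even_iff_two_dvd.1 h).trans (Cfsg.Agent.Blocks.Knorr.charDegree_dvd χ.2)

/-- `Out = 1` and two even degrees. -/
theorem row_one_even [Finite S] [IsSimpleGroup S] (hna : ¬ IsMulCommutative S)
    (hout : (MulAut.conj : S →* MulAut S).range.index = 1) {a b : ℕ} (ha : Even a) (hb : Even b) (hab : a ≠ b)
    (hRa : RC S a) (hRb : RC S b) : Row S := by
  refine row_one hout fun G _ _ N _ f hN g => ?_
  have hs : IsSimpleGroup N := (MulEquiv.isSimpleGroup_congr f).1 inferInstance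
  have hc : ∀ a b : G, a * b * a⁻¹ * b⁻¹ ∈ N := fun a b => hN ▸ Subgroup.mem_top _
  refine R3.of_even (fun h => hna ?_) ?_ ha hb hab ((hRa.congr g).rd hc ?_) ((hRb.congr g).rd hc ?_)
  · exact ⟨⟨fun x y => f.injective (by rw [map_mul, map_mul]; exact h.is_comm.comm _ _)⟩⟩
  · rw [← Nat.card_congr f.toEquiv]
    exact two_dvd_of_rc hRa ha
  · rintro rfl
    exact absurd ha (by decide)
  · rintro rfl
    exact absurd hb (by decide)

end rows

end Cfsg.Agent.H619.R4
end
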